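import Groth.Agent.Lib.Nagata6.Comp
import Groth.Agent.Lib.ChowQP8.Main
import Groth.Agent.S1281

/-!
# A common target for finitely many admissible blow-ups
-/

set_option autoImplicit false
set_option backward.isDefEq.respectTransparency false
universe u

open CategoryTheory CategoryTheory.Limits AlgebraicGeometry TopologicalSpace

namespace GrothLib.CommonT8

variable {S U : Scheme.{u}}

/-- The identity is the blow-up in the unit ideal. -/
theorem isBlowUp_id_top (X : Scheme.{u}) : BlowUp.IsBlowUp (𝟙 X) (⊤ : X.IdealSheafData) :=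
  ⟨by rw [Scheme.IdealSheafData.comap_id]; exact GrothLib.BlowUp.isEffCartierIdeal_top,
    fun Y g _ => ⟨g, Category.comp_id g, fun h hh => by rw [← hh, Category.comp_id]⟩⟩

theorem isFiniteTypeIdeal_top (X : Scheme.{u}) : BlowUp.IsFiniteTypeIdeal (⊤ : X.IdealSheafData) :=
  fun W => by rw [Scheme.IdealSheafData.ideal_top]; exact ⟨{1}, by simp⟩

/-- Finitely many schemes with a common open embed, after admissible blow-ups, in one separated scheme. -/
theorem exists_target [CompactSpace S] [QuasiSeparatedSpace S]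
    (gU : U ⟶ S) [IsSeparated gU] [QuasiCompact gU] [LocallyOfFiniteType gU] :
    ∀ (n : ℕ) (X : Fin (n + 1) → Scheme.{u}) (g : ∀ i, X i ⟶ S)
    [∀ i, IsSeparated (g i)] [∀ i, QuasiCompact (g i)] [∀ i, LocallyOfFiniteType (g i)]
    (j : ∀ i, U ⟶ X i) [∀ i, IsOpenImmersion (j i)] (_ : ∀ i, j i ≫ g i = gU),
    ∃ (Xc : Scheme.{u}) (q : Xc ⟶ S) (_ : IsSeparated q) (_ : QuasiCompact q) (_ : LocallyOfFiniteType q)
      (jc : U ⟶ Xc) (_ : IsOpenImmersion jc) (𝓘 : ∀ i, (X i).IdealSheafData) (X' : Fin (n + 1) → Scheme.{u})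
      (b : ∀ i, X' i ⟶ X i) (o : ∀ i, X' i ⟶ Xc) (u : ∀ i, U ⟶ X' i),
      (∀ i, BlowUp.IsBlowUp (b i) (𝓘 i) ∧ BlowUp.IsAdmissibleFor (j i).opensRange (𝓘 i) ∧
        IsOpenImmersion (o i) ∧ o i ≫ q = b i ≫ g i ∧ u i ≫ b i = j i ∧ u i ≫ o i = jc) ∧
      (⋃ i, Set.range (fun x => o i x)) = Set.univ := by
  intro n
  induction n with
  | zero =>
    intro X g _ _ _ j _ hj
    refine ⟨X 0, g 0, inferInstance, inferInstance, inferInstance, j 0, inferInstance, ?_⟩
    have h : ∀ i : Fin 1, ∃ (I : (X i).IdealSheafData) (X' : Scheme.{u}) (b : X' ⟶ X i) (o : X' ⟶ X 0)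
        (u : U ⟶ X'), BlowUp.IsBlowUp b I ∧ BlowUp.IsAdmissibleFor (j i).opensRange I ∧
        IsOpenImmersion o ∧ o ≫ g 0 = b ≫ g i ∧ u ≫ b = j i ∧ u ≫ o = j 0 ∧ Surjective o := fun i => by
      obtain rfl : i = 0 := Subsingleton.elim _ _
      exact ⟨⊤, X 0, 𝟙 _, 𝟙 _, j 0, isBlowUp_id_top _, ⟨isFiniteTypeIdeal_top _, by simp⟩,
        inferInstance, rfl, Category.comp_id _, Category.comp_id _, inferInstance⟩
    choose I X' b o u h1 h2 h3 h4 h5 h6 h7 using h
    refine ⟨I, X', b, o, u, fun i => ⟨h1 i, h2 i, h3 i, h4 i, h5 i, h6 i⟩, ?_⟩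
    exact Set.eq_univ_iff_forall.mpr fun x => Set.mem_iUnion.mpr ⟨0, (h7 0).surj x⟩
  | succ n ih =>
    intro X g _ _ _ j _ hj
    obtain ⟨Xc, q, hqs, hqc, hqt, jc, hjc, I, X', b, o, u, h, hcov⟩ :=
      ih (fun i => X i.castSucc) (fun i => g i.castSucc) (fun i => j i.castSucc) (fun i => hj _)
    have hjcq : jc ≫ q = gU := by
      obtain ⟨-, -, -, h4, h5, h6⟩ := h 0
      rw [← h6, Category.assoc, h4, reassoc_of% h5, hj]
    obtain ⟨Y, r, hrs, hrt, hrc, I₁, I₂, Xc', Xl', c, bl, o₁, o₂, u₁, u₂, hc, hI₁, hbl, hI₂,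
        ho₁, ho₂, hq₁, hq₂, hu₁, hu₂, hu⟩ :=
      Groth.Agent.S1281.result gU q (g (Fin.last _)) jc (j (Fin.last _)) hjcq (hj _)
    have := Nagata6.isProper_of_isBlowUp hI₁.1 hc
    have := Nagata6.isProper_of_isBlowUp hI₂.1 hbl
    have : CompactSpace (X (Fin.last _)) := QuasiCompact.compactSpace_of_compactSpace (g _)
    have : CompactSpace Xl' := QuasiCompact.compactSpace_of_compactSpace bl
    have key : ∀ i : Fin (n + 2), ∃ (K : (X i).IdealSheafData) (Z : Scheme.{u}) (e : Z ⟶ X i) (v : Z ⟶ Y)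
        (w : U ⟶ Z), CompactSpace Z ∧ BlowUp.IsBlowUp e K ∧ BlowUp.IsAdmissibleFor (j i).opensRange K ∧
        IsOpenImmersion v ∧ v ≫ r = e ≫ g i ∧ w ≫ e = j i ∧ w ≫ v = u₁ ≫ o₁ := by
      refine Fin.lastCases ⟨I₂, Xl', bl, o₂, u₂, inferInstance, hbl, hI₂, ho₂, hq₂, hu₂, hu.symm⟩ fun i => ?_
      obtain ⟨h1, h2, h3, h4, h5, h6⟩ := h i
      have := h3
      have : CompactSpace (X i.castSucc) := QuasiCompact.compactSpace_of_compactSpace (g _)
      have : QuasiSeparatedSpace (X i.castSucc) := quasiSeparatedSpace_of_quasiSeparated (g _)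
      have := Nagata6.isProper_of_isBlowUp h2.1 h1
      have : CompactSpace (X' i) := QuasiCompact.compactSpace_of_compactSpace (b i)
      have hZ := GrothLib.BlowUp.isBlowUp_flat_baseChange (o i) hc
      obtain ⟨K, hK, hKs, hKb⟩ :=
        Nagata6.exists_isBlowUp_comp h2.1 h1 (Nagata6.fg_comap' I₁ hI₁.1 (o i)) hZ
      have hadm : BlowUp.IsAdmissibleFor (j i.castSucc).opensRange K := by
        refine ⟨hK, ?_⟩
        rw [hKs]
        refine Set.disjoint_left.mpr ?_
        rintro x (hxI | ⟨y, hy, rfl⟩) hxU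
        · exact Set.disjoint_left.mp h2.2 hxI hxU
        · obtain ⟨t, ht⟩ := hxU
          have := ChowQP8.isIso_restrict_of_admissible h1 (j i.castSucc).opensRange h2.2
          have hbt : b i (u i t) = b i y := by
            rw [← Scheme.Hom.comp_apply, h5]; exact ht
          have hyU : b i y ∈ (j i.castSucc).opensRange := ⟨t, ht⟩
          have htU : b i (u i t) ∈ (j i.castSucc).opensRange := hbt ▸ hyU
          have he : (b i ∣_ (j i.castSucc).opensRange) ⟨y, hyU⟩ =
              (b i ∣_ (j i.castSucc).opensRange) ⟨u i t, htU⟩ := by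
            apply (j i.castSucc).opensRange.ι.isOpenEmbedding.injective
            rw [← Scheme.Hom.comp_apply, ← Scheme.Hom.comp_apply, morphismRestrict_ι]
            exact hbt.symm
          have hye : y = u i t := congrArg Subtype.val
            ((b i ∣_ (j i.castSucc).opensRange).homeomorph.injective he)
          rw [Scheme.IdealSheafData.support_comap] at hy
          refine Set.disjoint_left.mp hI₁.2 hy ?_
          exact ⟨t, by rw [hye, ← Scheme.Hom.comp_apply, h6]⟩
      refine ⟨K, pullback (o i) c, pullback.fst _ _ ≫ b i, pullback.snd _ _ ≫ o₁,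
        pullback.lift (u i) u₁ (by rw [h6, hu₁]), ?_, hKb, hadm, inferInstance, ?_, ?_, ?_⟩
      · exact QuasiCompact.compactSpace_of_compactSpace (pullback.fst (o i) c)
      · rw [Category.assoc, hq₁, ← pullback.condition_assoc, h4, Category.assoc]
      · rw [pullback.lift_fst_assoc, h5]
      · rw [pullback.lift_snd_assoc]
    choose K Z e v w h1 h2 h3 h4 h5 h6 h7 using key
    let W : Y.Opens := ⨆ i, (v i).opensRange
    have hW : ∀ i x, v i x ∈ W := fun i x => Opens.mem_iSup.mpr ⟨i, x, rfl⟩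
    have hr : ∀ i, Set.range (v i) ⊆ Set.range W.ι := fun i => by
      rw [Scheme.Opens.range_ι]; rintro _ ⟨x, rfl⟩; exact hW i x
    let v' : ∀ i, Z i ⟶ (W : Scheme.{u}) := fun i => IsOpenImmersion.lift W.ι (v i) (hr i)
    have hv' : ∀ i, v' i ≫ W.ι = v i := fun i => IsOpenImmersion.lift_fac _ _ _
    have hv'o : ∀ i, IsOpenImmersion (v' i) := fun i => by
      have : IsOpenImmersion (v' i ≫ W.ι) := by rw [hv']; exact h4 i
      exact IsOpenImmersion.of_comp _ W.ι
    have hWc : IsCompact (W : Set Y) := by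
      simp only [W, Opens.coe_iSup, Scheme.Hom.coe_opensRange]
      exact isCompact_iUnion fun i => isCompact_range (v i).continuous
    have : CompactSpace (W : Scheme.{u}) := isCompact_iff_compactSpace.mp hWc
    have : QuasiSeparatedSpace Y := quasiSeparatedSpace_of_quasiSeparated r
    have : QuasiCompact W.ι := by
      have : QuasiCompact (W.ι ≫ terminal.from _) := inferInstance
      have : QuasiSeparated (terminal.from Y) := quasiSeparated_iff_quasiSeparatedSpace _ |>.mpr ‹_›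
      exact QuasiCompact.of_comp _ (terminal.from Y)
    let jW : U ⟶ (W : Scheme.{u}) := w 0 ≫ v' 0
    have hjW : jW ≫ W.ι = u₁ ≫ o₁ := by rw [Category.assoc, hv', h7]
    have : IsOpenImmersion u₁ := by
      have : IsOpenImmersion (u₁ ≫ c) := by rw [hu₁]; infer_instance
      have hiso := ChowQP8.isIso_restrict_of_admissible hc jc.opensRange hI₁.2
      let u' : U ⟶ _ := IsOpenImmersion.lift (c ⁻¹ᵁ jc.opensRange).ι u₁ (by
        rw [Scheme.Opens.range_ι]; rintro _ ⟨t, rfl⟩
        exact ⟨t, by rw [← Scheme.Hom.comp_apply, hu₁]⟩)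
      have he : u' ≫ (c ∣_ jc.opensRange) ≫ jc.opensRange.ι = jc := by
        rw [morphismRestrict_ι, ← Category.assoc, IsOpenImmersion.lift_fac, hu₁]
      have : IsOpenImmersion (u' ≫ (c ∣_ jc.opensRange) ≫ jc.opensRange.ι) := by rw [he]; infer_instance
      have : IsOpenImmersion u' := IsOpenImmersion.of_comp u' ((c ∣_ jc.opensRange) ≫ jc.opensRange.ι)
      rw [← IsOpenImmersion.lift_fac (c ⁻¹ᵁ jc.opensRange).ι u₁ (by
        rw [Scheme.Opens.range_ι]; rintro _ ⟨t, rfl⟩
        exact ⟨t, by rw [← Scheme.Hom.comp_apply, hu₁]⟩)]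
      exact (inferInstance : IsOpenImmersion (u' ≫ (c ⁻¹ᵁ jc.opensRange).ι))
    have : IsOpenImmersion jW := by
      have : IsOpenImmersion (jW ≫ W.ι) := by rw [hjW]; infer_instance
      exact IsOpenImmersion.of_comp _ W.ι
    refine ⟨W, W.ι ≫ r, inferInstance, inferInstance, inferInstance, jW, inferInstance, K, Z, e, v', w,
      fun i => ⟨h2 i, h3 i, hv'o i, by rw [← h5, ← hv' i, Category.assoc], h6 i, ?_⟩, ?_⟩
    · rw [← cancel_mono W.ι, Category.assoc, hv', h7, hjW]
    · refine Set.eq_univ_iff_forall.mpr fun x => ?_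
      obtain ⟨i, y, hy⟩ := Opens.mem_iSup.mp x.2
      refine Set.mem_iUnion.mpr ⟨i, y, W.ι.isOpenEmbedding.injective ?_⟩
      show W.ι (v' i y) = W.ι x
      rw [← Scheme.Hom.comp_apply, hv']
      exact hy

end GrothLib.CommonT8
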